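import Groth.Agent.Lib.CechPsh.ShortExact
import Mathlib.Algebra.Homology.HomologySequence
import Mathlib.Algebra.Homology.ShortComplex.ShortExact

/-!
The long exact sequence of Cech cohomology.
-/

universe w v u

open CategoryTheory CategoryTheory.Limits Opposite

noncomputable section

namespace Groth.Agent.Lib.CechPsh.LongExact

open Groth.Agent.Lib.CechPsh.Vanish

variable {C : Type u} [Category.{v} C] {U : C} [HasFiniteProducts (Over U)] {ι : Type w}
  (Uf : ι → Over U)

/-- The map of Cech complexes of a map of presheaves. -/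
abbrev cxMap {P Q : Cᵒᵖ ⥤ AddCommGrpCat.{w}} (φ : P ⟶ Q) :
    EtCech.cechComplex Uf P ⟶ EtCech.cechComplex Uf Q :=
  (cechComplexFunctor Uf).map (Functor.whiskerLeft (Over.forget U).op φ)

theorem proj_cxMap {P Q : Cᵒᵖ ⥤ AddCommGrpCat.{w}} (φ : P ⟶ Q) (n : ℕ) (i : Fin (n + 1) → ι)
    (x : (EtCech.cechComplex Uf P).X n) :
    proj Uf Q n i ((cxMap Uf φ).f n x) = φ.app _ (proj Uf P n i x) := by
  have h : (cxMap Uf φ).f n ≫ proj Uf Q n i = proj Uf P n i ≫ φ.app _ := by
    exact Pi.map_π (f := fun i : Fin (n + 1) → ι => P.obj (op (prd Uf i).left))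
      (g := fun i : Fin (n + 1) → ι => Q.obj (op (prd Uf i).left))
      (fun i => φ.app (op (prd Uf i).left)) i
  have h' := ConcreteCategory.congr_hom h x
  rw [ConcreteCategory.comp_apply, ConcreteCategory.comp_apply] at h'
  exact h'

variable {P Q R : Cᵒᵖ ⥤ AddCommGrpCat.{w}} (f : P ⟶ Q) (g : Q ⟶ R)

/-- If a sequence is short exact on the members of the nerve, the Cech cohomology of the last term
vanishes where that of the middle term and the next one of the first term vanish. -/
theorem isZero_cechH_right (hgf : ∀ W x, g.app W (f.app W x) = 0)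
    (hinj : ∀ W, Function.Injective (f.app W))
    (hex : ∀ W x, g.app W x = 0 → ∃ a, f.app W a = x)
    (hsurj : ∀ (n : ℕ) (i : Fin (n + 1) → ι), Function.Surjective (g.app (op (prd Uf i).left)))
    (p : ℕ) (h₂ : IsZero (EtCech.cechH Uf Q p)) (h₁ : IsZero (EtCech.cechH Uf P (p + 1))) :
    IsZero (EtCech.cechH Uf R p) := by
  let S : ShortComplex (CochainComplex AddCommGrpCat.{w} ℕ) :=
    ShortComplex.mk (cxMap Uf f) (cxMap Uf g) (by
      ext n x
      refine cochain_ext Uf R n fun i => ?_
      rw [HomologicalComplex.comp_f, ConcreteCategory.comp_apply, proj_cxMap, proj_cxMap, hgf]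
      exact (map_zero (proj Uf R n i).hom).symm)
  have hS : S.ShortExact := by
    refine HomologicalComplex.shortExact_of_degreewise_shortExact S fun n => ?_
    refine { exact := ?_, mono_f := ?_, epi_g := ?_ }
    · rw [ShortComplex.ab_exact_iff]
      intro x hx
      choose a ha using fun i => hex _ (proj Uf Q n i x) ((proj_cxMap Uf g n i x).symm.trans
        ((congrArg (proj Uf R n i) hx).trans (map_zero _)))
      obtain ⟨y, hy⟩ := exists_cochain Uf P n a
      exact ⟨y, cochain_ext Uf Q n fun i => (proj_cxMap Uf f n i y).trans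
        ((congrArg _ (hy i)).trans (ha i))⟩
    · refine (AddCommGrpCat.mono_iff_injective _).2 fun x y h => cochain_ext Uf P n fun i => ?_
      exact hinj _ ((proj_cxMap Uf f n i x).symm.trans
        ((congrArg (proj Uf Q n i) h).trans (proj_cxMap Uf f n i y)))
    · refine (AddCommGrpCat.epi_iff_surjective _).2 fun z => ?_
      choose t ht using fun i => hsurj n i (proj Uf R n i z)
      obtain ⟨y, hy⟩ := exists_cochain Uf Q n t
      exact ⟨y, cochain_ext Uf R n fun i => (proj_cxMap Uf g n i y).trans
        ((congrArg _ (hy i)).trans (ht i))⟩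
  exact (hS.homology_exact₃ p (p + 1) (by simp)).isZero_of_both_zeros
    (h₂.eq_of_src _ _) (h₁.eq_of_tgt _ _)

end Groth.Agent.Lib.CechPsh.LongExact
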