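import Groth.Agent.Lib.CechPsh.Surj
import Mathlib.CategoryTheory.Sites.Abelian
import Mathlib.Algebra.Homology.ShortComplex.Ab
import Mathlib.Algebra.Category.Grp.EpiMono
import Mathlib.CategoryTheory.Sites.EpiMono

/-!
Sections of short exact sequences of abelian sheaves.
-/

universe w v u

open CategoryTheory CategoryTheory.Limits Opposite

noncomputable section

namespace Groth.Agent.Lib.CechPsh.ShortExact

variable {C : Type u} [Category.{v} C] {J : GrothendieckTopology C}
  [HasSheafify J AddCommGrpCat.{w}]

/-- Sections are left exact. -/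
theorem app_left_exact {S : ShortComplex (Sheaf J AddCommGrpCat.{w})} (hS : S.ShortExact)
    (W : Cᵒᵖ) :
    Function.Injective (S.f.hom.app W) ∧ (∀ x, S.g.hom.app W (S.f.hom.app W x) = 0) ∧
      ∀ x, S.g.hom.app W x = 0 → ∃ a, S.f.hom.app W a = x := by
  let G := sheafToPresheaf J AddCommGrpCat.{w} ⋙ (evaluation Cᵒᵖ AddCommGrpCat.{w}).obj W
  have : PreservesFiniteLimits G := comp_preservesFiniteLimits _ _
  have : G.Additive := Functor.additive_of_preserves_binary_products G
  have := hS.mono_f
  have hm : Mono (G.map S.f) := inferInstance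
  refine ⟨(AddCommGrpCat.mono_iff_injective _).1 hm, fun x => ?_, ?_⟩
  · exact ConcreteCategory.congr_hom (S.map G).zero x
  · have : (S.map G).Exact := hS.exact.map_of_mono_of_preservesKernel G inferInstance inferInstance
    exact (ShortComplex.ab_exact_iff _).1 this

end Groth.Agent.Lib.CechPsh.ShortExact
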