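import Mathlib.AlgebraicTopology.AlternatingFaceMapComplex
import Mathlib.Algebra.Category.Grp.Abelian
import Mathlib.Algebra.Category.Grp.Adjunctions
import Mathlib.Algebra.Homology.ShortComplex.Ab
import Mathlib.CategoryTheory.Abelian.FunctorCategory
import Mathlib.CategoryTheory.Comma.Over.Basic
import Mathlib.CategoryTheory.EssentiallySmall
import Mathlib.CategoryTheory.Functor.ReflectsIso.Exact

/-!
The complex of free abelian presheaves on the Cech nerve of a family of objects over `U`,
and its exactness in positive degrees.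
-/

universe w v u

open CategoryTheory CategoryTheory.Limits Opposite AlgebraicTopology

noncomputable section

namespace Groth.Agent.Lib.CechPsh.Nerve

variable {C : Type u} [Category.{v} C] {U : C} {ι : Type w} (Uf : ι → Over U)

/-- The simplices over `V`: a map to `U` and a family of lifts of it to members of the family. -/
def T (α : Type) (V : C) : Type (max v w) :=
  {x : (V ⟶ U) × (α → Σ i, V ⟶ (Uf i).left) // ∀ a, (x.2 a).2 ≫ (Uf (x.2 a).1).hom = x.1}

instance [LocallySmall.{w} C] (α : Type) (V : C) : Small.{w} (T Uf α V) := by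
  unfold T; infer_instance

variable {Uf}

/-- Restriction of simplices. -/
def res {α : Type} {V W : C} (g : W ⟶ V) (t : T Uf α V) : T Uf α W :=
  ⟨(g ≫ t.1.1, fun a => ⟨(t.1.2 a).1, g ≫ (t.1.2 a).2⟩), fun a => by
    simp only [Category.assoc, t.2 a]⟩

/-- Reindexing of simplices. -/
def reindex {α β : Type} {V : C} (f : α → β) (t : T Uf β V) : T Uf α V :=
  ⟨(t.1.1, t.1.2 ∘ f), fun a => t.2 (f a)⟩

lemma T.ext {α : Type} {V : C} {t t' : T Uf α V} (h₁ : t.1.1 = t'.1.1)
    (h₂ : ∀ a, t.1.2 a = t'.1.2 a) : t = t' :=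
  Subtype.ext (Prod.ext h₁ (funext h₂))

lemma res_id {α : Type} {V : C} (t : T Uf α V) : res (𝟙 V) t = t :=
  T.ext (Category.id_comp _) fun a => Sigma.ext rfl (heq_of_eq (Category.id_comp _))

lemma res_comp {α : Type} {V W X : C} (g : W ⟶ V) (h : X ⟶ W) (t : T Uf α V) :
    res (h ≫ g) t = res h (res g t) :=
  T.ext (Category.assoc _ _ _) fun a => Sigma.ext rfl (heq_of_eq (Category.assoc _ _ _))

lemma reindex_res {α β : Type} {V W : C} (f : α → β) (g : W ⟶ V) (t : T Uf β V) :
    reindex f (res g t) = res g (reindex f t) := rfl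

variable [LocallySmall.{w} C]

variable (Uf) in
/-- The free abelian group on the simplices over `V`. -/
abbrev F (α : Type) (V : C) : Type w := FreeAbelianGroup (Shrink.{w} (T Uf α V))

/-- The basis element of a simplex. -/
def gen {α : Type} {V : C} (t : T Uf α V) : F Uf α V :=
  FreeAbelianGroup.of (equivShrink _ t)

/-- The homomorphism induced by a map of simplices. -/
def fmap {α β : Type} {V W : C} (f : T Uf α V → T Uf β W) : F Uf α V →+ F Uf β W :=
  FreeAbelianGroup.map (fun x => equivShrink _ (f ((equivShrink _).symm x)))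

lemma fmap_gen {α β : Type} {V W : C} (f : T Uf α V → T Uf β W) (t : T Uf α V) :
    fmap f (gen t) = gen (f t) := by
  simp [fmap, gen]

@[ext high]
lemma hom_ext {α : Type} {V : C} {A : Type*} [AddCommGroup A] {f g : F Uf α V →+ A}
    (h : ∀ t, f (gen t) = g (gen t)) : f = g :=
  FreeAbelianGroup.lift_ext f g fun x => by
    simpa [gen] using h ((equivShrink _).symm x)

/-- Extension of a function on simplices. -/
def lift {α : Type} {V : C} {A : Type*} [AddCommGroup A] (f : T Uf α V → A) : F Uf α V →+ A :=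
  FreeAbelianGroup.lift (fun x => f ((equivShrink _).symm x))

lemma lift_gen {α : Type} {V : C} {A : Type*} [AddCommGroup A] (f : T Uf α V → A)
    (t : T Uf α V) : lift f (gen t) = f t := by
  simp [lift, gen]

variable (Uf) in
/-- The presheaf of free groups on simplices. -/
def K (α : Type) : Cᵒᵖ ⥤ AddCommGrpCat.{w} where
  obj V := AddCommGrpCat.of (F Uf α V.unop)
  map g := AddCommGrpCat.ofHom (fmap (res g.unop))
  map_id V := AddCommGrpCat.hom_ext (hom_ext fun t => by
    change fmap (res (𝟙 V.unop)) (gen t) = gen t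
    rw [fmap_gen, res_id])
  map_comp g h := AddCommGrpCat.hom_ext (hom_ext fun t => by
    change fmap (res (h.unop ≫ g.unop)) (gen t) = fmap (res h.unop) (fmap (res g.unop) (gen t))
    rw [fmap_gen, fmap_gen, fmap_gen, res_comp])

/-- The map induced by a reindexing. -/
def kmap {α β : Type} (f : α → β) : K Uf β ⟶ K Uf α where
  app V := AddCommGrpCat.ofHom (fmap (reindex f))
  naturality V W g := AddCommGrpCat.hom_ext (hom_ext fun t => by
    change fmap (reindex f) (fmap (res g.unop) (gen t)) =
      fmap (res g.unop) (fmap (reindex f) (gen t))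
    rw [fmap_gen, fmap_gen, fmap_gen, fmap_gen, reindex_res])

lemma natTrans_res {α : Type} {P : Cᵒᵖ ⥤ AddCommGrpCat.{w}} (ψ : K Uf α ⟶ P) {V W : C}
    (g : W ⟶ V) (t : T Uf α V) :
    ψ.app (op W) (gen (res g t)) = P.map g.op (ψ.app (op V) (gen t)) := by
  have h := ConcreteCategory.congr_hom (ψ.naturality g.op) (gen t)
  rw [ConcreteCategory.comp_apply, ConcreteCategory.comp_apply] at h
  rw [← h]
  exact congrArg _ (fmap_gen _ t).symm

variable (Uf) in
/-- The simplicial presheaf of free groups. -/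
def simplicial : SimplicialObject (Cᵒᵖ ⥤ AddCommGrpCat.{w}) where
  obj Δ := K Uf (Fin (Δ.unop.len + 1))
  map f := kmap f.unop.toOrderHom
  map_id Δ := by
    ext V : 2
    exact AddCommGrpCat.hom_ext (hom_ext fun t => fmap_gen _ t)
  map_comp f g := by
    ext V : 2
    exact AddCommGrpCat.hom_ext (hom_ext fun t => by
      change fmap (reindex _) (gen t) = fmap (reindex _) (fmap (reindex _) (gen t))
      rw [fmap_gen, fmap_gen, fmap_gen]
      rfl)

variable (Uf) in
/-- The differential. -/
def d (n : ℕ) : K Uf (Fin (n + 2)) ⟶ K Uf (Fin (n + 1)) :=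
  AlternatingFaceMapComplex.objD (simplicial Uf) n

lemma d_comp_d (n : ℕ) : d Uf (n + 1) ≫ d Uf n = 0 :=
  AlternatingFaceMapComplex.d_squared (simplicial Uf) n

lemma hom_sum_apply {α : Type*} (s : Finset α) {A B : AddCommGrpCat.{w}} (f : α → (A ⟶ B))
    (x : A) : (∑ j ∈ s, f j) x = ∑ j ∈ s, f j x := by
  classical
  induction s using Finset.induction with
  | empty => simp
  | insert a s ha ih => simp [Finset.sum_insert ha, ← ih]

/-- The differential on a fixed stage, as a homomorphism. -/
def dHom (n : ℕ) (V : C) : F Uf (Fin (n + 2)) V →+ F Uf (Fin (n + 1)) V :=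
  ((d Uf n).app (op V)).hom

lemma d_gen (n : ℕ) {V : C} (t : T Uf (Fin (n + 2)) V) :
    dHom n V (gen t) =
      ∑ a : Fin (n + 2), (-1 : ℤ) ^ (a : ℕ) • gen (reindex a.succAbove t) := by
  change (d Uf n).app (op V) (gen t) = _
  rw [d, AlternatingFaceMapComplex.objD, NatTrans.app_sum]
  refine (hom_sum_apply _ _ _).trans (Finset.sum_congr rfl fun a _ => ?_)
  exact congrArg ((-1 : ℤ) ^ (a : ℕ) • ·) (fmap_gen _ t)

/-- The chosen lift of a map to `U` which lifts. -/
def apex {k : ℕ} {V : C} (t : T Uf (Fin (k + 1)) V) :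
    {p : Σ i, V ⟶ (Uf i).left // p.2 ≫ (Uf p.1).hom = t.1.1} :=
  Classical.choice ⟨⟨t.1.2 0, t.2 0⟩⟩

/-- The cone on a simplex. -/
def cone {k : ℕ} {V : C} (t : T Uf (Fin (k + 1)) V) : T Uf (Fin (k + 2)) V :=
  ⟨(t.1.1, Fin.cons (α := fun _ => Σ i, V ⟶ (Uf i).left) (apex t).1 t.1.2), fun a => by
    refine Fin.cases ?_ (fun a => ?_) a
    · exact (apex t).2
    · exact t.2 a⟩

lemma cone_face_zero {k : ℕ} {V : C} (t : T Uf (Fin (k + 1)) V) :
    reindex Fin.succ (cone t) = t :=
  T.ext rfl fun a => by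
    change Fin.cons (α := fun _ => Σ i, V ⟶ (Uf i).left) (apex t).1 t.1.2 a.succ = _
    rw [Fin.cons_succ]

lemma cone_face_succ {k : ℕ} {V : C} (t : T Uf (Fin (k + 2)) V) (a : Fin (k + 2)) :
    reindex (Fin.succAbove a.succ) (cone t) = cone (reindex a.succAbove t) :=
  T.ext rfl fun b => by
    refine Fin.cases ?_ (fun b => ?_) b
    · change Fin.cons (α := fun _ => Σ i, V ⟶ (Uf i).left) (apex t).1 t.1.2
        (a.succ.succAbove 0) = _
      rw [Fin.succ_succAbove_zero]
      rfl
    · change Fin.cons (α := fun _ => Σ i, V ⟶ (Uf i).left) (apex t).1 t.1.2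
        (a.succ.succAbove b.succ) = _
      rw [Fin.succ_succAbove_succ, Fin.cons_succ]
      rfl

lemma exact (n : ℕ) : (ShortComplex.mk _ _ (d_comp_d (Uf := Uf) n)).Exact := by
  have hP : JointlyReflectIsomorphisms (fun V : Cᵒᵖ =>
      (evaluation Cᵒᵖ AddCommGrpCat.{w}).obj V) :=
    ⟨fun f _ => by
      have : ∀ V, IsIso (f.app V) := fun V =>
        (inferInstance : IsIso (((evaluation Cᵒᵖ AddCommGrpCat.{w}).obj V).map f))
      exact NatIso.isIso_of_isIso_app f⟩
  rw [hP.exact_iff]
  intro V
  rw [ShortComplex.ab_exact_iff]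
  intro x hx
  let x' : F Uf (Fin (n + 2)) V.unop := x
  refine ⟨fmap cone x', ?_⟩
  have key : (dHom (n + 1) V.unop).comp (fmap cone) + (fmap cone).comp (dHom n V.unop) =
      AddMonoidHom.id (F Uf (Fin (n + 2)) V.unop) := by
    refine hom_ext fun t => ?_
    simp only [AddMonoidHom.add_apply, AddMonoidHom.comp_apply, AddMonoidHom.id_apply]
    rw [fmap_gen, d_gen, d_gen, map_sum, Fin.sum_univ_succ, add_assoc, ← Finset.sum_add_distrib]
    simp [map_zsmul, fmap_gen, cone_face_zero, cone_face_succ, pow_succ]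
  have h := DFunLike.congr_fun key x'
  have hx' : dHom n V.unop x' = 0 := hx
  simp only [AddMonoidHom.add_apply, AddMonoidHom.comp_apply, AddMonoidHom.id_apply, hx',
    map_zero, add_zero] at h
  exact h

end Groth.Agent.Lib.CechPsh.Nerve
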