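import Groth.Agent.Lib.CechPsh.Vanish
import Mathlib.CategoryTheory.Sites.Sheaf
import Mathlib.Algebra.Category.Grp.Abelian
import Mathlib.CategoryTheory.Sites.EqualizerSheafCondition

/-!
Sections lift along a surjection with kernel whose first Cech cohomology vanishes.
-/

universe w v u

open CategoryTheory CategoryTheory.Limits Opposite

noncomputable section

namespace Groth.Agent.Lib.CechPsh.Surj

open Groth.Agent.Lib.CechPsh.Nerve Groth.Agent.Lib.CechPsh.Vanish

variable {C : Type u} [Category.{v} C] {U : C} [HasFiniteProducts (Over U)] {ι : Type w}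
  (Uf : ι → Over U) (J : GrothendieckTopology C) {P Q R : Cᵒᵖ ⥤ AddCommGrpCat.{w}} (f : P ⟶ Q)
  (g : Q ⟶ R)

omit [HasFiniteProducts (Over U)] in
theorem res_congr {P : Cᵒᵖ ⥤ AddCommGrpCat.{w}} {V W : C} {a b : V ⟶ W} (h : a = b)
    (x : P.obj (op W)) : P.map a.op x = P.map b.op x := by rw [h]

omit [HasFiniteProducts (Over U)] in
theorem res_res {P : Cᵒᵖ ⥤ AddCommGrpCat.{w}} {V W W' : C} (a : V ⟶ W) (b : W ⟶ W')
    (x : P.obj (op W')) : P.map a.op (P.map b.op x) = P.map (a ≫ b).op x := by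
  rw [op_comp, P.map_comp, ConcreteCategory.comp_apply]

/-- A cochain of degree zero is determined by its restrictions to the members. -/
theorem eq_res_proj {P : Cᵒᵖ ⥤ AddCommGrpCat.{w}} (b : ∀ l : Fin 1 → ι, P.obj (op (prd Uf l).left))
    (l : Fin 1 → ι) :
    b l = P.map (Pi.π (Uf ∘ l) 0).left.op (P.map ((Pi.lift fun _ : Fin 1 => 𝟙 (Uf (l 0))) :
      Uf (l 0) ⟶ prd Uf (fun _ : Fin 1 => l 0)).left.op (b fun _ => l 0)) := by
  obtain ⟨j, rfl⟩ : ∃ j, l = fun _ => j := ⟨l 0, funext fun c => by rw [Fin.fin_one_eq_zero c]⟩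
  have e : Pi.π (Uf ∘ fun _ : Fin 1 => j) 0 ≫
      ((Pi.lift fun _ : Fin 1 => 𝟙 (Uf j)) : Uf j ⟶ prd Uf (fun _ : Fin 1 => j)) = 𝟙 _ := by
    refine Pi.hom_ext _ _ fun c => ?_
    obtain rfl : c = 0 := Fin.fin_one_eq_zero c
    erw [Category.assoc, Pi.lift_π, Category.comp_id, Category.id_comp]
  rw [res_res, ← Over.comp_left, e]
  exact (ConcreteCategory.congr_hom (P.map_id _) _).symm

/-- Sections lift when the first Cech cohomology of the kernel vanishes. -/
theorem exists_lift (hQ : Presheaf.IsSheaf J Q)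
    (hR : Presheaf.IsSheaf J R)
    (hinj : ∀ W, Function.Injective (f.app W))
    (hgf : ∀ W x, g.app W (f.app W x) = 0)
    (hex : ∀ W x, g.app W x = 0 → ∃ a, f.app W a = x)
    (hY : Sieve.ofArrows (fun i => (Uf i).left) (fun i => (Uf i).hom) ∈ J U)
    (hH : IsZero (EtCech.cechH Uf P 1)) (s : R.obj (op U))
    (hs : ∀ i, ∃ t, g.app (op (Uf i).left) t = R.map (Uf i).hom.op s) :
    ∃ q, g.app (op U) q = s := by
  choose t ht using hs
  let δ : ∀ i : Fin 2 → ι, Q.obj (op (prd Uf i).left) := fun i =>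
    Q.map (Pi.π (Uf ∘ i) 1).left.op (t (i 1)) - Q.map (Pi.π (Uf ∘ i) 0).left.op (t (i 0))
  have hδ : ∀ i, g.app _ (δ i) = 0 := fun i => by
    simp only [δ, map_sub, sub_eq_zero]
    refine (NatTrans.naturality_apply g _ _).trans (Eq.trans ?_ (NatTrans.naturality_apply g _ _).symm)
    erw [ht, ht]
    exact (res_res _ _ s).trans ((res_congr (Over.w (Pi.π (Uf ∘ i) 1)) s).trans
      ((res_congr (Over.w (Pi.π (Uf ∘ i) 0)) s).symm.trans (res_res _ _ s).symm))
  choose a ha using fun i => hex _ _ (hδ i)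
  obtain ⟨x, hx⟩ := exists_cochain Uf P 1 a
  have hdx : (EtCech.cechComplex Uf P).d 1 2 x = 0 := by
    refine cochain_ext Uf P 2 fun i => hinj _ ?_
    rw [proj_d_apply, map_sum]
    erw [map_zero, map_zero]
    have key : ∀ (c : Fin 3) (b₁ b₀ : Fin 3), c.succAbove 1 = b₁ → c.succAbove 0 = b₀ →
        f.app (op (prd Uf i).left)
          (P.map (face Uf i c).left.op (proj Uf P 1 (i ∘ c.succAbove) x)) =
        Q.map (Pi.π (Uf ∘ i) b₁).left.op (t (i b₁)) -
          Q.map (Pi.π (Uf ∘ i) b₀).left.op (t (i b₀)) := fun c b₁ b₀ h₁ h₀ => by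
      subst h₁ h₀
      rw [hx]
      refine ((NatTrans.naturality_apply f _ _).trans (congrArg _ (ha _))).trans ?_
      simp only [δ, map_sub]
      refine congrArg₂ (· - ·) ?_ ?_
      · exact (res_res _ _ _).trans (res_congr ((Over.comp_left _ _ _ _ _).symm.trans
          (congrArg Over.Hom.left (Pi.lift_π _ 1))) _)
      · exact (res_res _ _ _).trans (res_congr ((Over.comp_left _ _ _ _ _).symm.trans
          (congrArg Over.Hom.left (Pi.lift_π _ 0))) _)
    refine (Fin.sum_univ_three _).trans ?_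
    rw [map_zsmul, map_zsmul, map_zsmul, key 0 2 1 rfl rfl, key 1 2 0 rfl rfl, key 2 1 0 rfl rfl]
    simp
  have hex' := (HomologicalComplex.exactAt_iff_isZero_homology _ _).2 hH
  rw [HomologicalComplex.exactAt_iff' _ 0 1 2 (by simp) (by simp), ShortComplex.ab_exact_iff] at hex'
  obtain ⟨b, hb⟩ := hex' x hdx
  let b' : ∀ j, P.obj (op (Uf j).left) := fun j =>
    P.map ((Pi.lift fun _ : Fin 1 => 𝟙 (Uf j)) :
      Uf j ⟶ prd Uf (fun _ : Fin 1 => j)).left.op (proj Uf P 0 (fun _ => j) b)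
  let τ : ∀ j, Q.obj (op (Uf j).left) := fun j => t j - f.app _ (b' j)
  have hτ : ∀ i : Fin 2 → ι, Q.map (Pi.π (Uf ∘ i) 1).left.op (τ (i 1)) =
      Q.map (Pi.π (Uf ∘ i) 0).left.op (τ (i 0)) := fun i => by
    have h1 := ha i
    rw [← hx i, ← hb] at h1
    erw [proj_d_apply] at h1
    have hface : ∀ c : Fin 2, P.map (face Uf i c).left.op (proj Uf P 0 (i ∘ c.succAbove) b) =
        P.map (Pi.π (Uf ∘ i) (c.succAbove 0)).left.op (b' (i (c.succAbove 0))) := fun c => by
      rw [eq_res_proj Uf (fun l => proj Uf P 0 l b) (i ∘ c.succAbove)]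
      exact (res_res _ _ _).trans (res_congr ((Over.comp_left _ _ _ _ _).symm.trans
        (congrArg Over.Hom.left (Pi.lift_π _ 0))) _)
    rw [Fin.sum_univ_two, hface 0, hface 1] at h1
    simp only [Fin.val_zero, pow_zero, one_smul, Fin.val_one, pow_one, neg_smul, map_add,
      map_neg] at h1
    simp only [τ, map_sub]
    refine sub_eq_sub_iff_sub_eq_sub.2 (Eq.trans h1.symm ?_)
    rw [← sub_eq_add_neg]
    exact congrArg₂ (· - ·) (NatTrans.naturality_apply f _ _) (NatTrans.naturality_apply f _ _)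
  have hgτ : ∀ j, g.app _ (τ j) = R.map (Uf j).hom.op s := fun j => by
    simp only [τ, map_sub, hgf, sub_zero, ht]
  have hsQ := (Presieve.isSheafFor_arrows_iff (Q ⋙ forget AddCommGrpCat) (fun j => (Uf j).hom)).1
    ((Presieve.isSheafFor_iff_generate _).2
      ((isSheaf_iff_isSheaf_of_type _ _).1
        (Presheaf.isSheaf_comp_of_isSheaf J Q (forget AddCommGrpCat) hQ) _ hY))
  obtain ⟨q, hq, -⟩ := hsQ τ fun i j Z gi gj hg => by
    let k : Fin 2 → ι := Fin.cases j (fun _ => i)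
    let ai : Over.mk (gi ≫ (Uf i).hom) ⟶ Uf i := Over.homMk gi
    let aj : Over.mk (gi ≫ (Uf i).hom) ⟶ Uf j := Over.homMk gj hg.symm
    let m : Over.mk (gi ≫ (Uf i).hom) ⟶ prd Uf k :=
      Pi.lift (Fin.cases (motive := fun c => Over.mk (gi ≫ (Uf i).hom) ⟶ (Uf ∘ k) c) aj
        (fun _ => ai))
    have h := congrArg (Q.map m.left.op) (hτ k)
    have e₁ : m.left ≫ (Pi.π (Uf ∘ k) 1).left = gi :=
      (Over.comp_left _ _ _ _ _).symm.trans (congrArg Over.Hom.left (Pi.lift_π _ _))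
    have e₀ : m.left ≫ (Pi.π (Uf ∘ k) 0).left = gj :=
      (Over.comp_left _ _ _ _ _).symm.trans (congrArg Over.Hom.left (Pi.lift_π _ _))
    rw [res_res, res_res] at h
    exact ((res_congr (P := Q) e₁ (τ i)).symm.trans h).trans (res_congr (P := Q) e₀ (τ j))
  refine ⟨q, ?_⟩
  have hsR : Presieve.IsSeparatedFor (R ⋙ forget AddCommGrpCat)
      (Sieve.ofArrows (fun j => (Uf j).left) (fun j => (Uf j).hom)).arrows :=
    (((isSheaf_iff_isSheaf_of_type _ _).1
      (Presheaf.isSheaf_comp_of_isSheaf J R (forget AddCommGrpCat) hR)) _ hY).isSeparatedFor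
  refine hsR.ext ?_
  rintro W _ ⟨V, c, _, ⟨i⟩, rfl⟩
  change R.map (c ≫ (Uf i).hom).op (g.app _ q) = R.map (c ≫ (Uf i).hom).op s
  rw [← res_res, ← res_res, ← NatTrans.naturality_apply g (Uf i).hom.op q]
  exact congrArg _ ((congrArg (g.app _) (hq i)).trans (hgτ i))

end Groth.Agent.Lib.CechPsh.Surj
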