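import Groth.Agent.Lib.CechPsh.Vanish
import Groth.Agent.Lib.CechPsh.Surj
import Mathlib.CategoryTheory.Limits.Preserves.Shapes.Products
import Mathlib.CategoryTheory.Limits.Constructions.LimitsOfProductsAndEqualizers
import Mathlib.CategoryTheory.Limits.Constructions.Over.Basic
import Mathlib.CategoryTheory.Limits.Constructions.Over.Connected

/-!
Cech cohomology of a restriction along a functor preserving fibre products.
-/

universe w v u v' u'

open CategoryTheory CategoryTheory.Limits Opposite

noncomputable section

namespace Groth.Agent.Lib.CechPsh.Comap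

open Groth.Agent.Lib.CechPsh.Vanish

variable {C : Type u} [Category.{v} C] {D : Type u'} [Category.{v'} D] (F : C ⥤ D) {U : C}

/-- A functor preserving fibre products preserves finite products over an object. -/
theorem preservesFiniteProducts_post [HasPullbacks C] [HasPullbacks D]
    [PreservesLimitsOfShape WalkingCospan F] :
    PreservesFiniteProducts (Over.post (X := U) F) := by
  have : PreservesLimitsOfShape (Discrete.{0} PEmpty) (Over.post (X := U) F) := by
    have t : IsTerminal ((Over.post (X := U) F).obj (Over.mk (𝟙 U))) :=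
      Over.mkIdTerminal.ofIso (Over.isoMk (Iso.refl _)
        ((Category.id_comp _).trans (F.map_id U)))
    have : PreservesLimit (Functor.empty.{0} (Over U)) (Over.post (X := U) F) :=
      preservesLimit_of_preserves_limit_cone Over.mkIdTerminal
        ((isLimitMapConeEmptyConeEquiv (Over.post (X := U) F) (Over.mk (𝟙 U))).symm t)
    exact preservesLimitsOfShape_pempty_of_preservesTerminal _
  have : PreservesLimitsOfShape WalkingCospan (Over.post (X := U) F ⋙ Over.forget (F.obj U)) :=
    inferInstanceAs (PreservesLimitsOfShape WalkingCospan (Over.forget U ⋙ F))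
  have : PreservesLimitsOfShape WalkingCospan (Over.post (X := U) F) :=
    preservesLimitsOfShape_of_reflects_of_preserves _ (Over.forget (F.obj U))
  have : PreservesLimitsOfShape (Discrete WalkingPair) (Over.post (X := U) F) :=
    preservesBinaryProducts_of_preservesTerminal_and_pullbacks _
  have : HasFiniteLimits (Over U) := hasFiniteLimits_of_hasTerminal_and_pullbacks
  exact PreservesFiniteProducts.of_preserves_binary_and_terminal _

variable [HasFiniteProducts (Over U)] [HasFiniteProducts (Over (F.obj U))]
  [PreservesFiniteProducts (Over.post (X := U) F)] {ι : Type w} (Uf : ι → Over U)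
  (P : Dᵒᵖ ⥤ AddCommGrpCat.{w})

/-- The comparison between the members of the two nerves. -/
abbrev cmp {n : ℕ} (i : Fin (n + 1) → ι) :
    (Over.post F).obj (prd Uf i) ⟶ prd (fun j => (Over.post F).obj (Uf j)) i :=
  piComparison (Over.post (X := U) F) (Uf ∘ i)

theorem cmp_face {n : ℕ} (i : Fin (n + 2) → ι) (a : Fin (n + 2)) :
    (Over.post F).map (face Uf i a) ≫ cmp F Uf (i ∘ a.succAbove) =
      cmp F Uf i ≫ face (fun j => (Over.post F).obj (Uf j)) i a := by
  refine Pi.hom_ext _ _ fun b => ?_
  rw [Category.assoc, Category.assoc]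
  erw [piComparison_comp_π, Pi.lift_π, piComparison_comp_π, ← Functor.map_comp, Pi.lift_π]

/-- The bijection between cochains. -/
def res {n : ℕ} (i : Fin (n + 1) → ι)
    (x : P.obj (op (prd (fun j => (Over.post F).obj (Uf j)) i).left)) :
    P.obj (op (F.obj (prd Uf i).left)) :=
  P.map (cmp F Uf i).left.op x

theorem bijective_res {n : ℕ} (i : Fin (n + 1) → ι) : Function.Bijective (res F Uf P i) := by
  have : IsIso (cmp F Uf i).left := (inferInstance :
    IsIso ((Over.forget (F.obj U)).map (cmp F Uf i)))
  exact ConcreteCategory.bijective_of_isIso (P.map (cmp F Uf i).left.op)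

theorem res_face {n : ℕ} (i : Fin (n + 2) → ι) (a : Fin (n + 2))
    (x : P.obj (op (prd (fun j => (Over.post F).obj (Uf j)) (i ∘ a.succAbove)).left)) :
    res F Uf P i (P.map (face (fun j => (Over.post F).obj (Uf j)) i a).left.op x) =
      (F.op ⋙ P).map (face Uf i a).left.op (res F Uf P (i ∘ a.succAbove) x) := by
  have h := congrArg Over.Hom.left (cmp_face F Uf i a)
  rw [Over.comp_left, Over.comp_left] at h
  exact (Surj.res_res _ _ x).trans ((Surj.res_congr h x).symm.trans (Surj.res_res _ _ x).symm)

theorem res_d {n : ℕ} (i : Fin (n + 2) → ι)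
    (x : (EtCech.cechComplex (fun j => (Over.post F).obj (Uf j)) P).X n)
    (y : (EtCech.cechComplex Uf (F.op ⋙ P)).X n)
    (h : ∀ l, proj Uf (F.op ⋙ P) n l y = res F Uf P l (proj (fun j => (Over.post F).obj (Uf j)) P n l x)) :
    proj Uf (F.op ⋙ P) (n + 1) i ((EtCech.cechComplex Uf (F.op ⋙ P)).d n (n + 1) y) =
      res F Uf P i (proj (fun j => (Over.post F).obj (Uf j)) P (n + 1) i
        ((EtCech.cechComplex (fun j => (Over.post F).obj (Uf j)) P).d n (n + 1) x)) := by
  rw [proj_d_apply, proj_d_apply]
  unfold res
  rw [map_sum]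
  refine Finset.sum_congr rfl fun a _ => ?_
  rw [map_zsmul, h]
  exact congrArg ((-1 : ℤ) ^ (a : ℕ) • ·) (res_face F Uf P i a _).symm

/-- Cech cohomology of a restriction vanishes in positive degree when that of the presheaf does. -/
theorem isZero_cechH (p : ℕ)
    (h : IsZero (EtCech.cechH (fun j => (Over.post F).obj (Uf j)) P (p + 1))) :
    IsZero (EtCech.cechH Uf (F.op ⋙ P) (p + 1)) := by
  rw [← HomologicalComplex.exactAt_iff_isZero_homology,
    HomologicalComplex.exactAt_iff' _ p (p + 1) (p + 2) (by simp) (by simp),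
    ShortComplex.ab_exact_iff] at h ⊢
  intro y hy
  choose c hc using fun i => (bijective_res F Uf P i).2 (proj Uf (F.op ⋙ P) (p + 1) i y)
  obtain ⟨x, hx⟩ := exists_cochain (fun j => (Over.post F).obj (Uf j)) P (p + 1) c
  have hyx : ∀ l, proj Uf (F.op ⋙ P) (p + 1) l y =
      res F Uf P l (proj (fun j => (Over.post F).obj (Uf j)) P (p + 1) l x) := fun l => by
    rw [hx, hc]
  obtain ⟨z, hz⟩ := h x (cochain_ext _ P (p + 2) fun i => (bijective_res F Uf P i).1 (by
    refine (res_d F Uf P i x y hyx).symm.trans ?_
    refine (congrArg (proj Uf (F.op ⋙ P) (p + 2) i) hy).trans ((map_zero _).trans ?_)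
    exact ((congrArg (res F Uf P i) (map_zero _)).trans (map_zero _)).symm))
  obtain ⟨w', hw⟩ := exists_cochain Uf (F.op ⋙ P) p
    fun l => res F Uf P l (proj (fun j => (Over.post F).obj (Uf j)) P p l z)
  refine ⟨w', cochain_ext Uf (F.op ⋙ P) (p + 1) fun i => (res_d F Uf P i z w' hw).trans ?_⟩
  rw [hyx]
  exact congrArg (fun q => res F Uf P i (proj _ P (p + 1) i q)) hz

end Groth.Agent.Lib.CechPsh.Comap
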