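import Groth.Agent.Lib.CechPsh.Nerve
import Groth.Prelude.Def_EtCech
import Mathlib.CategoryTheory.Limits.Shapes.ConcreteCategory
import Mathlib.Algebra.Homology.ShortComplex.HomologicalComplex
import Mathlib.CategoryTheory.Preadditive.Injective.Basic

/-!
Cech cohomology of an injective presheaf vanishes in positive degrees.
-/

universe w v u

open CategoryTheory CategoryTheory.Limits Opposite AlgebraicTopology

noncomputable section

namespace Groth.Agent.Lib.CechPsh.Vanish

open Groth.Agent.Lib.CechPsh.Nerve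

variable {C : Type u} [Category.{v} C] {U : C} [HasFiniteProducts (Over U)] {ι : Type w}
  (Uf : ι → Over U) (P : Cᵒᵖ ⥤ AddCommGrpCat.{w})

/-- The product over `U` of the members with indices `i`. -/
abbrev prd {n : ℕ} (i : Fin (n + 1) → ι) : Over U := ∏ᶜ (Uf ∘ i)

/-- The face map between products. -/
abbrev face {n : ℕ} (i : Fin (n + 2) → ι) (a : Fin (n + 2)) :
    prd Uf i ⟶ prd Uf (i ∘ a.succAbove) :=
  Pi.lift fun b => Pi.π (Uf ∘ i) (a.succAbove b)

/-- The components of a cochain. -/
def proj (n : ℕ) (i : Fin (n + 1) → ι) :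
    (EtCech.cechComplex Uf P).X n ⟶ P.obj (op (prd Uf i).left) :=
  Pi.π (fun i : Fin (n + 1) → ι => P.obj (op (prd Uf i).left)) i

lemma proj_d (n : ℕ) (i : Fin (n + 2) → ι) :
    (EtCech.cechComplex Uf P).d n (n + 1) ≫ proj Uf P (n + 1) i =
      ∑ a : Fin (n + 2), (-1 : ℤ) ^ (a : ℕ) •
        (proj Uf P n (i ∘ a.succAbove) ≫ P.map (face Uf i a).left.op) := by
  have hd : (EtCech.cechComplex Uf P).d n (n + 1) = AlternatingCofaceMapComplex.objD
      ((FormalCoproduct.cosimplicialObjectFunctor (FormalCoproduct.mk _ Uf).cech).obj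
        ((Over.forget U).op ⋙ P)) n :=
    CochainComplex.of_d
      (fun n => ((FormalCoproduct.cosimplicialObjectFunctor (FormalCoproduct.mk _ Uf).cech).obj
        ((Over.forget U).op ⋙ P)).obj (SimplexCategory.mk n))
      (AlternatingCofaceMapComplex.objD _) n
  rw [hd]
  simp only [AlternatingCofaceMapComplex.objD]
  erw [Preadditive.sum_comp]
  refine Finset.sum_congr rfl fun j _ => ?_
  erw [Preadditive.zsmul_comp]
  congr 1
  dsimp [proj, CosimplicialObject.δ]
  erw [Pi.lift_π]
  rfl

lemma proj_d_apply (n : ℕ) (i : Fin (n + 2) → ι) (x : (EtCech.cechComplex Uf P).X n) :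
    proj Uf P (n + 1) i ((EtCech.cechComplex Uf P).d n (n + 1) x) =
      ∑ a : Fin (n + 2), (-1 : ℤ) ^ (a : ℕ) •
        P.map (face Uf i a).left.op (proj Uf P n (i ∘ a.succAbove) x) := by
  have h := ConcreteCategory.congr_hom (proj_d Uf P n i) x
  rw [ConcreteCategory.comp_apply] at h
  exact h.trans (hom_sum_apply _ _ _)

lemma cochain_ext (n : ℕ) {x y : (EtCech.cechComplex Uf P).X n}
    (h : ∀ i, proj Uf P n i x = proj Uf P n i y) : x = y :=
  (Concrete.productEquiv (fun i : Fin (n + 1) → ι => P.obj (op (prd Uf i).left))).injective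
    (funext fun i => by
      rw [Concrete.productEquiv_apply_apply, Concrete.productEquiv_apply_apply]
      exact h i)

lemma exists_cochain (n : ℕ) (b : ∀ i : Fin (n + 1) → ι, P.obj (op (prd Uf i).left)) :
    ∃ x : (EtCech.cechComplex Uf P).X n, ∀ i, proj Uf P n i x = b i :=
  ⟨(Concrete.productEquiv (fun i : Fin (n + 1) → ι => P.obj (op (prd Uf i).left))).symm b,
    fun i => Concrete.productEquiv_symm_apply_π _ b i⟩

/-- The indices of a simplex. -/
def idx {n : ℕ} {V : C} (t : T Uf (Fin (n + 1)) V) : Fin (n + 1) → ι := fun a => (t.1.2 a).1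

/-- The map to a product classified by a simplex. -/
def classify {n : ℕ} {V : C} (t : T Uf (Fin (n + 1)) V) : Over.mk t.1.1 ⟶ prd Uf (idx Uf t) :=
  Pi.lift fun a => Over.homMk (t.1.2 a).2 (t.2 a)

/-- The universal simplex. -/
def univ {n : ℕ} (i : Fin (n + 1) → ι) : T Uf (Fin (n + 1)) (prd Uf i).left :=
  ⟨((prd Uf i).hom, fun a => ⟨i a, (Pi.π (Uf ∘ i) a).left⟩),
    fun a => Over.w (Pi.π (Uf ∘ i) a)⟩

lemma res_univ {n : ℕ} {V : C} (t : T Uf (Fin (n + 1)) V) :
    res (classify Uf t).left (univ Uf (idx Uf t)) = t :=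
  T.ext (Over.w (classify Uf t)) fun a => Sigma.ext rfl (heq_of_eq
    ((Over.comp_left _ _ _ _ _).symm.trans (congrArg Over.Hom.left (Pi.lift_π _ a))))

lemma reindex_univ {n : ℕ} (i : Fin (n + 2) → ι) (a : Fin (n + 2)) :
    reindex a.succAbove (univ Uf i) = res (face Uf i a).left (univ Uf (i ∘ a.succAbove)) :=
  T.ext (Over.w (face Uf i a)).symm fun b => Sigma.ext rfl (heq_of_eq (Eq.symm
    ((Over.comp_left _ _ _ _ _).symm.trans (congrArg Over.Hom.left (Pi.lift_π _ b)))))

lemma classify_face {n : ℕ} {V : C} (t : T Uf (Fin (n + 2)) V) (a : Fin (n + 2)) :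
    (classify Uf (reindex a.succAbove t)).left =
      (classify Uf t).left ≫ (face Uf (idx Uf t) a).left := by
  rw [← Over.comp_left]
  refine congrArg Over.Hom.left (Pi.hom_ext _ _ fun b => ?_)
  refine (Pi.lift_π _ b).trans (Eq.symm ?_)
  erw [Category.assoc, Pi.lift_π, Pi.lift_π]
  rfl

variable [LocallySmall.{w} C]

/-- The value of a map out of the free presheaf on simplices over a fixed object. -/
def ev {α : Type} (ψ : K Uf α ⟶ P) (V : C) : F Uf α V →+ P.obj (op V) := (ψ.app (op V)).hom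

lemma ev_res {α : Type} (ψ : K Uf α ⟶ P) {V W : C} (g : W ⟶ V) (t : T Uf α V) :
    ev Uf P ψ W (gen (res g t)) = P.map g.op (ev Uf P ψ V (gen t)) :=
  natTrans_res ψ g t

lemma classify_res {n : ℕ} {V W : C} (g : W ⟶ V) (t : T Uf (Fin (n + 1)) V) :
    classify Uf (res g t) =
      (Over.homMk g : Over.mk (g ≫ t.1.1) ⟶ Over.mk t.1.1) ≫ classify Uf t := by
  refine Pi.hom_ext _ _ fun a => ?_
  refine (Pi.lift_π _ a).trans (Eq.symm ?_)
  erw [Category.assoc, Pi.lift_π]
  rfl

/-- The map out of the free presheaf on simplices defined by a family. -/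
def ofFamily {n : ℕ} (b : ∀ i : Fin (n + 1) → ι, P.obj (op (prd Uf i).left)) :
    K Uf (Fin (n + 1)) ⟶ P where
  app V := AddCommGrpCat.ofHom
    (lift fun t : T Uf (Fin (n + 1)) V.unop => P.map (classify Uf t).left.op (b (idx Uf t)))
  naturality V W g := AddCommGrpCat.hom_ext (by
    refine hom_ext (α := Fin (n + 1)) (V := V.unop) fun t => ?_
    let L (X : C) : F Uf (Fin (n + 1)) X →+ P.obj (op X) :=
      lift fun t : T Uf (Fin (n + 1)) X => P.map (classify Uf t).left.op (b (idx Uf t))
    change L W.unop (fmap (res g.unop) (gen t)) = P.map g (L V.unop (gen t))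
    rw [fmap_gen]
    refine (lift_gen _ _).trans (Eq.trans ?_ (congrArg (P.map g) (lift_gen _ t)).symm)
    refine Eq.trans ?_ (ConcreteCategory.congr_hom (P.map_comp (classify Uf t).left.op g) _)
    exact ConcreteCategory.congr_hom
      (congrArg P.map (congrArg Quiver.Hom.op
        (congrArg Over.Hom.left (classify_res Uf g.unop t)))) _)

lemma ofFamily_gen {n : ℕ} (b : ∀ i : Fin (n + 1) → ι, P.obj (op (prd Uf i).left)) {V : C}
    (t : T Uf (Fin (n + 1)) V) :
    ev Uf P (ofFamily Uf P b) V (gen t) = P.map (classify Uf t).left.op (b (idx Uf t)) :=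
  lift_gen _ t

/-- Cech cohomology of an injective presheaf vanishes in positive degrees. -/
theorem isZero_cechH [Injective P] (p : ℕ) : IsZero (EtCech.cechH Uf P (p + 1)) := by
  refine (HomologicalComplex.exactAt_iff_isZero_homology _ _).1 ?_
  rw [HomologicalComplex.exactAt_iff' _ p (p + 1) (p + 2) (by simp) (by simp),
    ShortComplex.ab_exact_iff]
  intro x hx
  let φ := ofFamily Uf P fun i => proj Uf P (p + 1) i x
  have hφ : d Uf (p + 1) ≫ φ = 0 := by
    ext V : 2
    refine AddCommGrpCat.hom_ext (hom_ext fun t => ?_)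
    change ev Uf P φ V.unop (dHom (p + 1) V.unop (gen t)) = 0
    rw [d_gen, map_sum]
    have h0 := congrArg (fun y => P.map (classify Uf t).left.op y)
      ((proj_d_apply Uf P (p + 1) (idx Uf t) x).symm.trans
        ((congrArg (proj Uf P (p + 2) (idx Uf t)) hx).trans (map_zero _)))
    rw [map_sum, map_zero] at h0
    refine (Finset.sum_congr rfl fun a _ => ?_).trans h0
    rw [map_zsmul, map_zsmul]
    refine congrArg ((-1 : ℤ) ^ (a : ℕ) • ·) ?_
    rw [ofFamily_gen, classify_face]
    erw [op_comp, P.map_comp, ConcreteCategory.comp_apply]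
  let hS := Nerve.exact (Uf := Uf) p
  let ψ : K Uf (Fin (p + 1)) ⟶ P := hS.descToInjective φ hφ
  have hψ : d Uf p ≫ ψ = φ := hS.comp_descToInjective φ hφ
  obtain ⟨y, hy⟩ := exists_cochain Uf P p fun i => ev Uf P ψ (prd Uf i).left (gen (univ Uf i))
  refine ⟨y, cochain_ext Uf P (p + 1) fun i => ?_⟩
  have hi : classify Uf (univ Uf i) = 𝟙 (prd Uf i) := Pi.hom_ext _ _ fun a => by
    erw [Pi.lift_π, Category.id_comp]
    rfl
  have h := ConcreteCategory.congr_hom
    (NatTrans.congr_app hψ (op (prd Uf i).left)) (gen (univ Uf i))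
  change ev Uf P ψ _ (dHom p (prd Uf i).left (gen (univ Uf i))) = ev Uf P φ _ _ at h
  rw [d_gen, map_sum] at h
  erw [ofFamily_gen, hi] at h
  refine (proj_d_apply Uf P p i y).trans ((Finset.sum_congr rfl fun a _ => ?_).trans (h.trans ?_))
  · rw [map_zsmul, hy, reindex_univ, ev_res]
  · exact ConcreteCategory.congr_hom (P.map_id _) _

end Groth.Agent.Lib.CechPsh.Vanish
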